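import Mathlib
import Cfsg.Agent.Lib.Helper44.FW.Defs

/-!
# FW (S3211): package [CY]

The square roots of `t₀ = x₀ (n x₀ n⁻¹)` inside `L₁ L₂` are at most four.
-/

set_option autoImplicit false

namespace Cfsg.Agent.Lib.Helper74.FW

open Cfsg.Agent.Lib.Helper44.FW

universe u

variable {G : Type u} [Group G]

/-- Elements of the join of two elementwise commuting subgroups are products. -/
theorem cy_mem_sup {L₁ L₂ : Subgroup G} (hc : ∀ x ∈ L₁, ∀ y ∈ L₂, x * y = y * x) {r : G}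
    (hr : r ∈ L₁ ⊔ L₂) : ∃ u ∈ L₁, ∃ v ∈ L₂, r = u * v := by
  rw [Subgroup.sup_eq_closure] at hr
  induction hr using Subgroup.closure_induction with
  | mem x hx =>
    rcases hx with hx | hx
    · exact ⟨x, hx, 1, L₂.one_mem, (mul_one x).symm⟩
    · exact ⟨1, L₁.one_mem, x, hx, (one_mul x).symm⟩
  | one => exact ⟨1, L₁.one_mem, 1, L₂.one_mem, (mul_one 1).symm⟩
  | mul x y _ _ ihx ihy =>
    obtain ⟨u, hu, v, hv, rfl⟩ := ihx
    obtain ⟨u', hu', v', hv', rfl⟩ := ihy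
    refine ⟨u * u', L₁.mul_mem hu hu', v * v', L₂.mul_mem hv hv', ?_⟩
    have h := hc u' hu' v hv
    calc u * v * (u' * v') = u * (v * u') * v' := by group
      _ = u * (u' * v) * v' := by rw [h]
      _ = u * u' * (v * v') := by group
  | inv x _ ihx =>
    obtain ⟨u, hu, v, hv, rfl⟩ := ihx
    refine ⟨u⁻¹, L₁.inv_mem hu, v⁻¹, L₂.inv_mem hv, ?_⟩
    have h := hc u⁻¹ (L₁.inv_mem hu) v⁻¹ (L₂.inv_mem hv)
    rw [mul_inv_rev, h]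

theorem cy_zpowers {j : G} (hj2 : j * j = 1) {c : G} (hc : c ∈ Subgroup.zpowers j) :
    c = 1 ∨ c = j := by
  obtain ⟨k, rfl⟩ := Subgroup.mem_zpowers_iff.mp hc
  have h2 : j ^ (2 : ℤ) = 1 := by
    rw [show (2 : ℤ) = 1 + 1 by norm_num, zpow_add, zpow_one, hj2]
  rcases Int.even_or_odd k with ⟨m, rfl⟩ | ⟨m, rfl⟩
  · left
    rw [← two_mul, zpow_mul, h2, one_zpow]
  · right
    rw [zpow_add, zpow_mul, h2, one_zpow, one_mul, zpow_one]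

theorem cy_two_roots {L₁ L₂ : Subgroup G} {j : G} (h1 : SL2Like L₁ j) (h2 : SL2Like L₂ j)
    (hjc : ∀ v ∈ L₂, j * v = v * j) (hj2 : j * j = 1) (x y : G) (hx : x ∈ L₁) (hx2 : x ^ 2 = j)
    (hy : y ∈ L₂) (hy2 : y ^ 2 = j) :
    ∃ a : G, ∀ u ∈ L₁, ∀ v ∈ L₂, u ^ 2 = x → v ^ 2 = y → u * v = a ∨ u * v = a * j := by
  by_cases h : ∃ u ∈ L₁, ∃ v ∈ L₂, u ^ 2 = x ∧ v ^ 2 = y
  · obtain ⟨u, hu, v, hv, hu2, hv2⟩ := h
    refine ⟨u * v, fun u' hu' v' hv' hu2' hv2' => ?_⟩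
    rcases h1.sq x hx hx2 u hu u' hu' hu2 hu2' with e1 | e1
    · rcases h2.sq y hy hy2 v hv v' hv' hv2 hv2' with e2 | e2
      · left; rw [e1, e2]
      · right; rw [e1, e2, mul_assoc]
    · rcases h2.sq y hy hy2 v hv v' hv' hv2 hv2' with e2 | e2
      · right
        rw [e1, e2, mul_assoc, hjc v hv, mul_assoc]
      · left
        rw [e1, e2]
        calc u * j * (v * j) = u * (j * v) * j := by group
          _ = u * (v * j) * j := by rw [hjc v hv]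
          _ = u * v * (j * j) := by group
          _ = u * v := by rw [hj2, mul_one]
  · exact ⟨1, fun u' hu' v' hv' hu2' hv2' => absurd ⟨u', hu', v', hv', hu2', hv2'⟩ h⟩

/-- **[CY]** -/
theorem pkgCY : PkgCY.{u} := by
  intro G _ L₁ L₂ j n cfg h1 h2 x₀ hx₀ hx₀2
  have hj2' : j ^ 2 = 1 := by
    rw [← cfg.ord]; exact pow_orderOf_eq_one j
  have hj2 : j * j = 1 := by rw [← pow_two]; exact hj2'
  have hjmem : j ∈ L₁ ⊓ L₂ := by
    rw [cfg.meet]; exact Subgroup.mem_zpowers j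
  have hj1 : j ∈ L₁ := hjmem.1
  have hjL2 : j ∈ L₂ := hjmem.2
  have hjc2 : ∀ v ∈ L₂, j * v = v * j := fun v hv => cfg.comm j hj1 v hv
  have hjc1 : ∀ u ∈ L₁, u * j = j * u := fun u hu => cfg.comm u hu j hjL2
  have hnj : j * n = n * j := by
    have := Subgroup.mem_centralizer_iff.mp cfg.hn j (Set.mem_singleton j)
    exact this
  have hy₀ : n * x₀ * n⁻¹ ∈ L₂ := by
    have h := Subgroup.mem_map_of_mem (MulAut.conj n).toMonoidHom hx₀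
    rw [cfg.swap] at h
    exact h
  have hy₀2 : (n * x₀ * n⁻¹) ^ 2 = j := by
    have e : (n * x₀ * n⁻¹) ^ 2 = n * x₀ ^ 2 * n⁻¹ := by
      rw [pow_two, pow_two]; group
    rw [e, hx₀2, ← hnj, mul_inv_cancel_right]
  -- the (β) pair
  have hxj : x₀ * j ∈ L₁ := L₁.mul_mem hx₀ hj1
  have hxj2 : (x₀ * j) ^ 2 = j := by
    have e : (x₀ * j) ^ 2 = x₀ * (j * x₀) * j := by rw [pow_two]; group
    rw [e, ← hjc1 x₀ hx₀]
    calc x₀ * (x₀ * j) * j = x₀ ^ 2 * (j * j) := by rw [pow_two]; group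
      _ = j := by rw [hx₀2, hj2, mul_one]
  have hyj : n * x₀ * n⁻¹ * j ∈ L₂ := L₂.mul_mem hy₀ hjL2
  have hyj2 : (n * x₀ * n⁻¹ * j) ^ 2 = j := by
    have e : (n * x₀ * n⁻¹ * j) ^ 2 = n * x₀ * n⁻¹ * (j * (n * x₀ * n⁻¹)) * j := by
      rw [pow_two]; group
    rw [e, hjc2 _ hy₀]
    calc n * x₀ * n⁻¹ * (n * x₀ * n⁻¹ * j) * j = (n * x₀ * n⁻¹) ^ 2 * (j * j) := by
          rw [pow_two]; group
      _ = j := by rw [hy₀2, hj2, mul_one]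
  obtain ⟨a, ha⟩ := cy_two_roots h1 h2 hjc2 hj2 x₀ (n * x₀ * n⁻¹) hx₀ hx₀2 hy₀ hy₀2
  obtain ⟨b, hb⟩ := cy_two_roots h1 h2 hjc2 hj2 (x₀ * j) (n * x₀ * n⁻¹ * j) hxj hxj2 hyj hyj2
  refine ⟨a, b, fun r hr hr2 => ?_⟩
  obtain ⟨u, hu, v, hv, rfl⟩ := cy_mem_sup cfg.comm hr
  have huv : (u * v) ^ 2 = u ^ 2 * v ^ 2 := by
    have h := cfg.comm u hu v hv
    calc (u * v) ^ 2 = u * (v * u) * v := by rw [pow_two]; group
      _ = u * (u * v) * v := by rw [h]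
      _ = u ^ 2 * v ^ 2 := by rw [pow_two, pow_two]; group
  rw [huv] at hr2
  -- c := x₀⁻¹ u² = y₀ (v²)⁻¹ ∈ L₁ ∩ L₂
  have hc1 : x₀⁻¹ * u ^ 2 ∈ L₁ := L₁.mul_mem (L₁.inv_mem hx₀) (L₁.pow_mem hu 2)
  have hceq : x₀⁻¹ * u ^ 2 = n * x₀ * n⁻¹ * (v ^ 2)⁻¹ := by
    calc x₀⁻¹ * u ^ 2 = x₀⁻¹ * (u ^ 2 * v ^ 2) * (v ^ 2)⁻¹ := by group
      _ = x₀⁻¹ * (x₀ * (n * x₀ * n⁻¹)) * (v ^ 2)⁻¹ := by rw [hr2]
      _ = n * x₀ * n⁻¹ * (v ^ 2)⁻¹ := by group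
  have hc2 : x₀⁻¹ * u ^ 2 ∈ L₂ := by
    rw [hceq]; exact L₂.mul_mem hy₀ (L₂.inv_mem (L₂.pow_mem hv 2))
  have hcz : x₀⁻¹ * u ^ 2 ∈ Subgroup.zpowers j := by
    rw [← cfg.meet]; exact ⟨hc1, hc2⟩
  rcases cy_zpowers hj2 hcz with hc | hc
  · -- (α)
    have hu2 : u ^ 2 = x₀ := by
      have : u ^ 2 = x₀ * (x₀⁻¹ * u ^ 2) := by group
      rw [this, hc, mul_one]
    have hv2 : v ^ 2 = n * x₀ * n⁻¹ := by
      have h := hceq
      rw [hc] at h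
      have : v ^ 2 = (n * x₀ * n⁻¹ * (v ^ 2)⁻¹)⁻¹ * (n * x₀ * n⁻¹) := by group
      rw [this, ← h, inv_one, one_mul]
    rcases ha u hu v hv hu2 hv2 with h | h
    · exact Or.inl h
    · exact Or.inr (Or.inl h)
  · -- (β)
    have hu2 : u ^ 2 = x₀ * j := by
      have : u ^ 2 = x₀ * (x₀⁻¹ * u ^ 2) := by group
      rw [this, hc]
    have hjinv : j⁻¹ = j := inv_eq_of_mul_eq_one_right hj2
    have hv2 : v ^ 2 = n * x₀ * n⁻¹ * j := by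
      have h := hceq
      rw [hc] at h
      have : v ^ 2 = (n * x₀ * n⁻¹ * (v ^ 2)⁻¹)⁻¹ * (n * x₀ * n⁻¹) := by group
      rw [this, ← h, hjinv, hjc2 _ hy₀]
    rcases hb u hu v hv hu2 hv2 with h | h
    · exact Or.inr (Or.inr (Or.inl h))
    · exact Or.inr (Or.inr (Or.inr h))

end Cfsg.Agent.Lib.Helper74.FW
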