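import Mathlib
import Cfsg.Agent.Lib.Helper44.FW.Defs

/-!
# FW (S3211): package [CNTEQ]
-/

set_option autoImplicit false

namespace Cfsg.Agent.Lib.Helper74.FW

open Cfsg.Agent.Lib.Helper44.FW

universe u

theorem cnteq_conj_comm {G : Type u} [Group G] (g r s : G) (h : r * s = s * r) :
    g * r * g⁻¹ * (g * s * g⁻¹) = g * s * g⁻¹ * (g * r * g⁻¹) := by
  have e1 : g * r * g⁻¹ * (g * s * g⁻¹) = g * (r * s) * g⁻¹ := by group
  have e2 : g * s * g⁻¹ * (g * r * g⁻¹) = g * (s * r) * g⁻¹ := by group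
  rw [e1, e2, h]

theorem cnteq_conj_comm' {G : Type u} [Group G] (g r s : G) (h : r * s = s * r) :
    g⁻¹ * r * g * (g⁻¹ * s * g) = g⁻¹ * s * g * (g⁻¹ * r * g) := by
  have e1 : g⁻¹ * r * g * (g⁻¹ * s * g) = g⁻¹ * (r * s) * g := by group
  have e2 : g⁻¹ * s * g * (g⁻¹ * r * g) = g⁻¹ * (s * r) * g := by group
  rw [e1, e2, h]

theorem cnteq_conj_sq {G : Type u} [Group G] (g r : G) :
    (g * r * g⁻¹) ^ 2 = g * r ^ 2 * g⁻¹ := by
  rw [pow_two, pow_two]; group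

theorem cnteq_conj_sq' {G : Type u} [Group G] (g r : G) :
    (g⁻¹ * r * g) ^ 2 = g⁻¹ * r ^ 2 * g := by
  rw [pow_two, pow_two]; group

/-- **[CNTEQ]** -/
theorem pkgCntEq : PkgCntEq.{u} := by
  intro G _ j t₀ g ha hb
  have ha' : g⁻¹ * j * g = t₀ := by rw [← hb]; group
  have hb' : g⁻¹ * t₀ * g = j := by rw [← ha]; group
  refine Nat.card_congr
    { toFun := fun r => ⟨g * r.1 * g⁻¹, ?_, ?_, ?_⟩
      invFun := fun r => ⟨g⁻¹ * r.1 * g, ?_, ?_, ?_⟩
      left_inv := fun r => Subtype.ext (by simp [mul_assoc])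
      right_inv := fun r => Subtype.ext (by simp [mul_assoc]) }
  · have := cnteq_conj_comm g r.1 t₀ r.2.2.1
    rwa [hb] at this
  · have := cnteq_conj_comm g r.1 j r.2.1
    rwa [ha] at this
  · rw [cnteq_conj_sq, r.2.2.2, ha]
  · have := cnteq_conj_comm' g r.1 t₀ r.2.2.1
    rwa [hb'] at this
  · have := cnteq_conj_comm' g r.1 j r.2.1
    rwa [ha'] at this
  · rw [cnteq_conj_sq', r.2.2.2, hb']

end Cfsg.Agent.Lib.Helper74.FW
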